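import Groth.Agent.L23.SepDepth.Main
import Groth.Agent.L02.SchDom.GeomFibre
import Groth.Agent.L21.Smooth.Scheme
import Groth.Agent.L05.Henselization.FlatQFComponents
import Groth.Agent.L28.ConstSect.FEtRestrict
import Groth.Agent.S1414
import Groth.Agent.L26.AV.SmoothField

/-!
# Clopens extend from fibrewise dense opens inside the smooth locus
-/

universe u

open CategoryTheory CategoryTheory.Limits AlgebraicGeometry TopologicalSpace

set_option autoImplicit false
set_option backward.isDefEq.respectTransparency.types false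
set_option linter.style.haveILetI false
set_option linter.unusedSectionVars false
set_option maxSynthPendingDepth 3

noncomputable section

namespace Groth.L23.SNC

open Groth.L23.SepDepth (Tot)

/-- Outside `U` the morphism is smooth, and `U` is dense in every fibre. -/
def Good {X S : Scheme.{u}} (f : X ⟶ S) (U : Set X) : Prop :=
  (∀ x ∉ U, ∃ W : X.Opens, x ∈ W ∧ Smooth (W.ι ≫ f)) ∧ Tot f U

variable {X S : Scheme.{u}} (f : X ⟶ S)

/-- A smooth morphism with connected geometric fibres has irreducible fibres. -/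
theorem isPreirreducible_fibre {V : Scheme.{u}} (a : X ⟶ V) [Smooth a]
    (h : ∀ (Ω : Type u) [Field Ω] [IsAlgClosed Ω] (η : Spec (CommRingCat.of Ω) ⟶ V), ConnectedSpace ↥(pullback a η))
    (v : V) : IsPreirreducible (a ⁻¹' {v}) := by
  obtain ⟨K, hK, hKc, η, hrange⟩ := Groth.L23.SepDepth.exists_geomPoint_range V v
  haveI := h K η
  let π : pullback a η ⟶ Spec (CommRingCat.of K) := pullback.snd a η
  haveI : Smooth π := inferInstanceAs (Smooth (pullback.snd a η))
  haveI : IsLocallyNoetherian (pullback a η) := LocallyOfFiniteType.isLocallyNoetherian π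
  haveI : IrreducibleSpace ↥(pullback a η) :=
    Groth.L02.SchDom.irreducibleSpace_of_connected fun x => Groth.L21.Smooth.isDomain_stalk π x
  rw [← hrange, ← Scheme.Pullback.range_fst]
  rw [← Set.image_univ]
  exact ((IrreducibleSpace.isIrreducible_univ _).image _ (pullback.fst a η).continuous.continuousOn).isPreirreducible

variable {T : Scheme.{u}} (t : T ⟶ X) [Etale t]

theorem closure_disjoint {U : Set X} (hU : Good f U) {C D : T.Opens} (hCD : Disjoint (C : Set T) D)
    (hW : (C : Set T) ∪ D = t ⁻¹' U) : Disjoint (closure (C : Set T)) (closure D) := by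
  rw [Set.disjoint_left]
  intro y hyC hyD
  by_cases hy : y ∈ (C : Set T) ∪ D
  · rcases hy with hy | hy
    · obtain ⟨w, hwC, hwD⟩ := mem_closure_iff.1 hyD C C.2 hy
      exact Set.disjoint_left.1 hCD hwC hwD
    · obtain ⟨w, hwD, hwC⟩ := mem_closure_iff.1 hyC D D.2 hy
      exact Set.disjoint_left.1 hCD hwC hwD
  · obtain ⟨W₀, hxW, hsm⟩ := hU.1 (t y) (fun h => hy (hW.symm ▸ h))
    let T₀ : T.Opens := t ⁻¹ᵁ W₀
    haveI := hsm
    let f₀ : (T₀ : Scheme.{u}) ⟶ S := T₀.ι ≫ t ≫ f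
    haveI : Smooth f₀ := by
      have e : f₀ = (t ∣_ W₀) ≫ W₀.ι ≫ f := by rw [← Category.assoc, morphismRestrict_ι, Category.assoc]
      rw [e]; infer_instance
    haveI : GeometricallyReduced f₀ := Groth.Agent.AV.geometricallyReduced_of_smooth f₀
    obtain ⟨X₁, V, e, q, a, x₁, he, hq, hx₁, hsq, -, hconn⟩ :=
      Groth.L23.GeomRedProd.exists_factor f₀ (⟨y, hxW⟩ : (T₀ : Scheme.{u}))
    haveI := he
    haveI := hq
    haveI : Smooth (a ≫ q) := hsq.symm ▸ inferInstance
    haveI : Smooth a := Groth.Agent.S1414.result a q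
    let g : X₁ ⟶ T := e ≫ T₀.ι
    haveI : Etale g := inferInstance
    let C' : X₁.Opens := g ⁻¹ᵁ C
    let D' : X₁.Opens := g ⁻¹ᵁ D
    have hgt : Tot ((g ≫ t) ≫ f) ((g ≫ t) ⁻¹' U) := Groth.L23.SepDepth.tot_comp f (g ≫ t) hU.2
    have hfa : ∀ z, ((g ≫ t) ≫ f) z = q (a z) := fun z => by
      have : (g ≫ t) ≫ f = a ≫ q := by rw [hsq]; simp only [g, f₀, Category.assoc]
      rw [this, Scheme.Hom.comp_apply]
    have hmem : ∀ z, (g ≫ t) z ∈ U → g z ∈ (C : Set T) ∪ D := fun z hz => by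
      rw [hW]
      show t (g z) ∈ U
      rw [← Scheme.Hom.comp_apply]
      exact hz
    have hgen : ∀ z : X₁, ∃ w, g w ∈ (C : Set T) ∪ D ∧ a w = a z := fun z => by
      obtain ⟨w, hw, hfw, hwz⟩ := hgt z
      rw [hfa, hfa] at hfw
      exact ⟨w, hmem w hw, Groth.L05.Henselization.FlatQF.eq_of_specializes q (hwz.map a.continuous) hfw⟩
    have hexcl : ∀ v, v ∈ a '' (C' : Set X₁) → v ∈ a '' (D' : Set X₁) → False := by
      rintro v ⟨c, hc, hcv⟩ ⟨d, hd, hdv⟩
      obtain ⟨w, -, hwC, hwD⟩ :=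
        isPreirreducible_fibre a hconn v C' D' C'.2 D'.2 ⟨c, hcv, hc⟩ ⟨d, hdv, hd⟩
      exact Set.disjoint_left.1 hCD hwC hwD
    have hopen : ∀ O : X₁.Opens, IsOpen (a '' (O : Set X₁)) := fun O => a.isOpenMap _ O.2
    have hgy : g x₁ = y := by rw [Scheme.Hom.comp_apply, hx₁]; rfl
    obtain ⟨w, hw | hw, hwv⟩ := hgen x₁
    · let N : X₁.Opens := ⟨a ⁻¹' (a '' (C' : Set X₁)), (hopen C').preimage a.continuous⟩
      obtain ⟨z, ⟨n, hn, rfl⟩, hzD⟩ := mem_closure_iff.1 hyD (g '' (N : Set X₁)) (g.isOpenMap _ N.2)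
        ⟨x₁, ⟨w, hw, hwv⟩, hgy⟩
      exact hexcl (a n) hn ⟨n, hzD, rfl⟩
    · let N : X₁.Opens := ⟨a ⁻¹' (a '' (D' : Set X₁)), (hopen D').preimage a.continuous⟩
      obtain ⟨z, ⟨n, hn, rfl⟩, hzC⟩ := mem_closure_iff.1 hyC (g '' (N : Set X₁)) (g.isOpenMap _ N.2)
        ⟨x₁, ⟨w, hw, hwv⟩, hgy⟩
      exact hexcl (a n) ⟨n, hzC, rfl⟩ hn

theorem dense_preimage {U : Set X} (hU : Tot f U) : Dense (t ⁻¹' U) := fun z => by
  obtain ⟨w, hw, -, hwz⟩ := Groth.L23.SepDepth.tot_comp f t hU z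
  exact hwz.mem_closed isClosed_closure (subset_closure hw)

omit t in
theorem denseEt_extEt {U : Scheme.{u}} (j : U ⟶ X) [IsOpenImmersion j] (hU : Good f (Set.range j.base)) :
    Groth.L28.ConstSect.DenseEt j ∧ Groth.L28.ConstSect.ExtEt j := by
  refine ⟨fun T t _ => dense_preimage f t hU.2, fun T t _ C hC hD hCW => ?_⟩
  have hcov : C ∪ t.base ⁻¹' Set.range j.base \ C = t.base ⁻¹' Set.range j.base := Set.union_sdiff_cancel hCW
  have hdis := closure_disjoint f t hU (C := ⟨C, hC⟩) (D := ⟨_, hD⟩) Set.disjoint_sdiff_right hcov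
  have huniv : closure C ∪ closure (t.base ⁻¹' Set.range j.base \ C) = Set.univ := by
    rw [← closure_union, hcov]; exact (dense_preimage f t hU.2).closure_eq
  have hcompl : closure C = (closure (t.base ⁻¹' Set.range j.base \ C))ᶜ :=
    Set.Subset.antisymm hdis.subset_compl_right fun a ha => (huniv.ge (Set.mem_univ a)).resolve_right ha
  refine ⟨closure C, ⟨isClosed_closure, hcompl ▸ isClosed_closure.isOpen_compl⟩, ?_⟩
  refine Set.Subset.antisymm (fun z hz => ?_) fun z hz => ⟨subset_closure hz, hCW hz⟩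
  by_contra hzC
  exact Set.disjoint_left.1 hdis hz.1 (subset_closure ⟨hz.2, hzC⟩)

omit t in
/-- The hypothesis is stable under base change. -/
theorem good_baseChange {U : Set X} (hU : Good f U) {X' S' : Scheme.{u}} {p : X' ⟶ X} {f' : X' ⟶ S'}
    {h : S' ⟶ S} (sq : IsPullback p f' f h) : Good f' (p ⁻¹' U) := by
  refine ⟨fun x hx => ?_, fun z => ?_⟩
  · obtain ⟨W, hxW, hW⟩ := hU.1 (p x) hx
    refine ⟨p ⁻¹ᵁ W, hxW, ?_⟩
    exact MorphismProperty.of_isPullback (P := @Smooth) ((isPullback_morphismRestrict p W).paste_vert sq) hW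
  · obtain ⟨w, hw, hfw, hwz⟩ := hU.2 (p z)
    have H := isPullback_fiberToSpecResidueField_of_isPullback sq (f' z)
    let m : f'.fiber (f' z) ⟶ f.fiber (h (f' z)) :=
      pullback.map _ _ _ _ p (Spec.map (h.residueFieldMap (f' z))) h sq.w.symm (by simp)
    haveI : Flat (Spec.map (h.residueFieldMap (f' z))) := inferInstance
    haveI : Flat m := MorphismProperty.of_isPullback (P := @Flat) H.flip inferInstance
    have h0 : m ≫ f.fiberι (h (f' z)) = f'.fiberι (f' z) ≫ p := pullback.lift_fst _ _ _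
    have hp : f (p z) = h (f' z) := by rw [← Scheme.Hom.comp_apply, sq.w, Scheme.Hom.comp_apply]
    obtain ⟨w', hw'⟩ : w ∈ Set.range (f.fiberι (h (f' z))) := by rw [f.range_fiberι]; exact hfw.trans hp
    have hmz : f.fiberι (h (f' z)) (m (f'.asFiber z)) = p z := by
      rw [← Scheme.Hom.comp_apply, h0, Scheme.Hom.comp_apply, f'.fiberι_asFiber]
    rw [← hw', ← hmz, (f.fiberι _).isEmbedding.isInducing.specializes_iff] at hwz
    obtain ⟨v, hvz, hvw⟩ := Flat.generalizingMap m hwz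
    refine ⟨f'.fiberι (f' z) v, ?_, (f'.range_fiberι (f' z)).le ⟨v, rfl⟩, ?_⟩
    · show p (f'.fiberι (f' z) v) ∈ U
      rw [← Scheme.Hom.comp_apply, ← h0, Scheme.Hom.comp_apply, hvw, hw']
      exact hw
    · simpa only [f'.fiberι_asFiber] using hvz.map (f'.fiberι (f' z)).continuous

end Groth.L23.SNC
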