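import Groth.Agent.L23.SNC.Ext
import Groth.Agent.S5181
import Groth.Agent.L28.ExtShriek.ConstIso
import Groth.Agent.L28.ExtShriek.Pres
import Groth.Agent.L28.Strata.Et
import Groth.Agent.L27.SecChart.Main
import Groth.Prelude.Def_SGA1t
import Groth.Prelude.Def_EtCore
import Groth.Prelude.Def_PBC

/-!
# Direct images of constant sheaves from complements of relative normal crossings divisors
-/

universe u

open CategoryTheory CategoryTheory.Limits AlgebraicGeometry TopologicalSpace Opposite

set_option autoImplicit false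
set_option backward.isDefEq.respectTransparency.types false
set_option linter.style.haveILetI false
set_option linter.unusedSectionVars false
set_option maxSynthPendingDepth 3

noncomputable section

namespace Groth.L23.SNC

/-- Constant sheaves are constructible. -/
theorem isConstructible_const (X : Scheme.{u}) (M : Type) [AddCommGroup M] [Finite M] :
    EtPBC.IsConstructible (EtCoh.const X M) := by
  intro U _
  refine ⟨1, fun _ => U.toScheme, fun _ => U.ι, fun _ => inferInstance, fun _ => ?_, ?_, ?_, fun _ => ?_⟩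
  · rw [U.range_ι, Subtype.coe_preimage_self]
    exact .univ
  · exact fun i j hij => absurd (Subsingleton.elim i j) hij
  · exact (Set.iUnion_const _).trans U.range_ι
  · intro _
    exact Groth.L28.Strata.isFLC_of_iso (EtCore.pullConst U.ι M).symm (Groth.L28.ExtShriek.isFLC_const _ M)

/-- The unit at a constant sheaf is an isomorphism. -/
theorem isIso_unit_const {X S U : Scheme.{u}} (f : X ⟶ S) (j : U ⟶ X) [IsOpenImmersion j]
    (hU : Good f (Set.range j.base)) (M : Type) [AddCommGroup M] [Finite M] :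
    IsIso ((EtCoh.pullPushAdj j).unit.app (EtCoh.const X M)) := by
  obtain ⟨hD, hE⟩ := denseEt_extEt f j hU
  refine (Groth.Agent.S5181.isIso_iff j _).2 fun V => ⟨Groth.Agent.S5181.injective_of_dense j hD M V, ?_⟩
  haveI : Etale V.hom := V.prop
  refine Groth.L28.ConstSect.surjective_res _ (Groth.Agent.S5181.isOpenEmbedding_eps j V) ?_ ?_
  · rw [Groth.Agent.S5181.range_eps]; exact hD V.left V.hom
  · rw [Groth.Agent.S5181.range_eps]; exact hE V.left V.hom

/-- The direct image of a constant sheaf is constant. -/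
def pushConstIso {X S U : Scheme.{u}} (f : X ⟶ S) (j : U ⟶ X) [IsOpenImmersion j]
    (hU : Good f (Set.range j.base)) (M : Type) [AddCommGroup M] [Finite M] :
    EtCoh.const X M ≅ (EtCoh.push j).obj (EtCoh.const U M) :=
  haveI := isIso_unit_const f j hU M
  asIso ((EtCoh.pullPushAdj j).unit.app (EtCoh.const X M)) ≪≫ (EtCoh.push j).mapIso (EtCore.pullConst j M)

/-- Naturality of the base change map. -/
theorem baseChange0_naturality {X Y X' Y' : Scheme.{u}} (f : X ⟶ Y) (g : Y' ⟶ Y) (f' : X' ⟶ Y') (g' : X' ⟶ X)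
    (w : g' ≫ f = f' ≫ g) {F F' : EtCoh.Ab X} (φ : F ⟶ F') :
    (EtCoh.pull g).map ((EtCoh.push f).map φ) ≫ EtCoh.baseChange0 f g f' g' w F' =
      EtCoh.baseChange0 f g f' g' w F ≫ (EtCoh.push f').map ((EtCoh.pull g').map φ) := by
  unfold EtCoh.baseChange0
  rw [← Adjunction.homEquiv_naturality_left_symm, ← Adjunction.homEquiv_naturality_right_symm]
  congr 1
  rw [← Category.assoc, ← Functor.map_comp]
  have hu : φ ≫ (EtCoh.pullPushAdj g').unit.app F' =
      (EtCoh.pullPushAdj g').unit.app F ≫ (EtCoh.push g').map ((EtCoh.pull g').map φ) :=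
    (EtCoh.pullPushAdj g').unit.naturality φ
  rw [hu, Functor.map_comp]
  simp only [Category.assoc]
  congr 1
  have h1 := (EtCoh.pushComp f g').hom.naturality ((EtCoh.pull g').map φ)
  have h2 := (EtCoh.pushCongr w).hom.naturality ((EtCoh.pull g').map φ)
  have h3 := (EtCoh.pushComp g f').inv.naturality ((EtCoh.pull g').map φ)
  simp only [Functor.comp_map] at h1 h2 h3
  rw [reassoc_of% h1, reassoc_of% h2, h3]

/-- A point of affine space generalizes within its fibre to one where no coordinate vanishes. -/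
theorem exists_generic_coords {n : Type u} {S : Scheme.{u}} (a : ↥(𝔸(n; S))) :
    ∃ a', a' ⤳ a ∧ (𝔸(n; S) ↘ S) a' = (𝔸(n; S) ↘ S) a ∧
      ∀ i, a' ∈ (𝔸(n; S)).basicOpen (AffineSpace.coord S i) := by
  let p := 𝔸(n; S) ↘ S
  let s := p a
  let k := S.residueField s
  let R := CommRingCat.of (MvPolynomial n k)
  let g : Spec R ⟶ S := Spec.map (CommRingCat.ofHom (MvPolynomial.C : k →+* MvPolynomial n k)) ≫ S.fromSpecResidueField s
  let m : Spec R ⟶ 𝔸(n; S) := AffineSpace.homOfVector g fun i => (Scheme.ΓSpecIso R).inv (MvPolynomial.X i)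
  let c : n → (𝔸(n; S)).residueField a := fun i =>
    (Scheme.ΓSpecIso _).hom ((𝔸(n; S).fromSpecResidueField a).appTop (AffineSpace.coord S i))
  let ev : R ⟶ (𝔸(n; S)).residueField a :=
    CommRingCat.ofHom (MvPolynomial.eval₂Hom (p.residueFieldMap a).hom c)
  have hm : Spec.map ev ≫ m = 𝔸(n; S).fromSpecResidueField a := by
    rw [AffineSpace.comp_homOfVector]
    refine AffineSpace.hom_ext ?_ fun i => ?_
    · rw [AffineSpace.homOfVector_over]
      show Spec.map ev ≫ Spec.map (CommRingCat.ofHom MvPolynomial.C) ≫ S.fromSpecResidueField s = _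
      rw [← Spec.map_comp_assoc]
      have : CommRingCat.ofHom (MvPolynomial.C : k →+* MvPolynomial n k) ≫ ev = p.residueFieldMap a := by
        ext x; exact MvPolynomial.eval₂Hom_C _ _ x
      rw [this]
      exact Scheme.Hom.SpecMap_residueFieldMap_fromSpecResidueField p a
    · rw [AffineSpace.homOfVector_appTop_coord]
      show (Spec.map ev).appTop ((Scheme.ΓSpecIso R).inv (MvPolynomial.X i)) = _
      rw [← CommRingCat.comp_apply, ← Scheme.ΓSpecIso_inv_naturality, CommRingCat.comp_apply,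
        show ev (MvPolynomial.X i) = c i from MvPolynomial.eval₂Hom_X' _ _ i]
      exact congrArg (fun φ : Γ(Spec ((𝔸(n; S)).residueField a), ⊤) ⟶ _ => φ _) (Scheme.ΓSpecIso _).hom_inv_id
  let o : ↥(Spec R) := (⟨⊥, Ideal.isPrime_bot⟩ : PrimeSpectrum (MvPolynomial n k))
  let b := Spec.map ev (IsLocalRing.closedPoint ((𝔸(n; S)).residueField a))
  have hb : m b = a := by
    rw [← Scheme.Hom.comp_apply, hm]; exact Scheme.fromSpecResidueField_apply _ _
  have ho : o ⤳ b := (PrimeSpectrum.le_iff_specializes (⟨⊥, Ideal.isPrime_bot⟩ : PrimeSpectrum (MvPolynomial n k)) b).1 bot_le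
  refine ⟨m o, hb ▸ ho.map m.continuous, ?_, fun i => ?_⟩
  · rw [← Scheme.Hom.comp_apply, AffineSpace.homOfVector_over, Scheme.Hom.comp_apply]
    exact Scheme.fromSpecResidueField_apply _ _
  · rw [← Scheme.Hom.mem_preimage]
    rw [Scheme.preimage_basicOpen_top, AffineSpace.homOfVector_appTop_coord]
    rw [basicOpen_eq_of_affine', Iso.inv_hom_id_apply]
    exact fun h => MvPolynomial.X_ne_zero i ((Submodule.mem_bot _).1 h)

variable {X U X' U' : Scheme.{u}} (j : U ⟶ X) (k : X' ⟶ X) (j' : U' ⟶ X') (k' : U' ⟶ U) (w : k' ≫ j = j' ≫ k)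

/-- The two composed direct images agree. -/
def pushSquare : EtCoh.push k' ⋙ EtCoh.push j ≅ EtCoh.push j' ⋙ EtCoh.push k :=
  EtCoh.pushComp j k' ≪≫ EtCoh.pushCongr w ≪≫ (EtCoh.pushComp k j').symm

/-- The base change map on a restricted sheaf is an isomorphism once both units are. -/
theorem isIso_baseChange0_pull (G : EtCoh.Ab X) [IsIso ((EtCoh.pullPushAdj j).unit.app G)]
    [IsIso ((EtCoh.pullPushAdj j').unit.app ((EtCoh.pull k).obj G))] :
    IsIso (EtCoh.baseChange0 j k j' k' w ((EtCoh.pull j).obj G)) := by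
  let A1 := (EtCoh.pullPushAdj k).comp (EtCoh.pullPushAdj j')
  let A2 := ((EtCoh.pullPushAdj j).comp (EtCoh.pullPushAdj k')).ofNatIsoRight (pushSquare j k j' k' w)
  let κ := A1.leftAdjointUniq A2
  have hκ : A1.unit.app G ≫ (EtCoh.push j' ⋙ EtCoh.push k).map (κ.hom.app G) = A2.unit.app G :=
    A1.unit_leftAdjointUniq_hom_app A2 G
  have key : (EtCoh.pull k).map ((EtCoh.pullPushAdj j).unit.app G) ≫
      EtCoh.baseChange0 j k j' k' w ((EtCoh.pull j).obj G) =
      (EtCoh.pullPushAdj j').unit.app ((EtCoh.pull k).obj G) ≫ (EtCoh.push j').map (κ.hom.app G) := by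
    apply ((EtCoh.pullPushAdj k).homEquiv _ _).injective
    unfold EtCoh.baseChange0
    refine (Adjunction.homEquiv_naturality_left _ _ _).trans ((congrArg (_ ≫ ·) (Equiv.apply_symm_apply _ _)).trans ?_)
    refine Eq.trans ?_ (hκ.symm.trans ?_)
    · simp [A2, pushSquare, Adjunction.ofNatIsoRight,
        Adjunction.comp]
    · simp [A1, Adjunction.comp, Adjunction.homEquiv_unit]
  haveI : IsIso ((EtCoh.pull k).map ((EtCoh.pullPushAdj j).unit.app G) ≫
      EtCoh.baseChange0 j k j' k' w ((EtCoh.pull j).obj G)) := by rw [key]; infer_instance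
  exact IsIso.of_isIso_comp_left ((EtCoh.pull k).map ((EtCoh.pullPushAdj j).unit.app G)) _

/-- Base change for constant sheaves on the open. -/
theorem isIso_baseChange0_const {S S' : Scheme.{u}} (f : X ⟶ S) (f' : X' ⟶ S') [IsOpenImmersion j]
    [IsOpenImmersion j'] (hU : Good f (Set.range j.base)) (hU' : Good f' (Set.range j'.base))
    (M : Type) [AddCommGroup M] [Finite M] :
    IsIso (EtCoh.baseChange0 j k j' k' w (EtCoh.const U M)) := by
  haveI := isIso_unit_const f j hU M
  haveI : IsIso ((EtCoh.pullPushAdj j').unit.app ((EtCoh.pull k).obj (EtCoh.const X M))) := by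
    have h := (EtCoh.pullPushAdj j').unit.naturality (EtCore.pullConst k M).hom
    haveI := isIso_unit_const f' j' hU' M
    haveI : IsIso ((EtCoh.pullPushAdj j').unit.app ((EtCoh.pull k).obj (EtCoh.const X M)) ≫
        (EtCoh.pull j' ⋙ EtCoh.push j').map (EtCore.pullConst k M).hom) := by
      rw [← h]; infer_instance
    exact IsIso.of_isIso_comp_right _ ((EtCoh.pull j' ⋙ EtCoh.push j').map (EtCore.pullConst k M).hom)
  haveI := isIso_baseChange0_pull j k j' k' w (EtCoh.const X M)
  have h := baseChange0_naturality j k j' k' w (EtCore.pullConst j M).hom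
  haveI : IsIso ((EtCoh.pull k).map ((EtCoh.push j).map (EtCore.pullConst j M).hom) ≫
      EtCoh.baseChange0 j k j' k' w (EtCoh.const U M)) := by rw [h]; infer_instance
  exact IsIso.of_isIso_comp_left ((EtCoh.pull k).map ((EtCoh.push j).map (EtCore.pullConst j M).hom)) _

omit j k j' k' in
/-- A relative strict normal crossings divisor is fibrewise nowhere dense and lies in the smooth locus. -/
theorem good_of_isRelSNC {X S : Scheme.{u}} (f : X ⟶ S) {r : ℕ} (φ : Fin r → Γ(X, ⊤))
    (hD : SGA1t.IsRelSNC f φ) : Good f (SGA1t.compl φ : Set X) := by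
  have hmem : ∀ z : X, z ∈ SGA1t.compl φ ↔ ∀ i, z ∈ X.basicOpen (φ i) := fun z => by
    simp only [SGA1t.compl, Scheme.mem_basicOpen _ _ z (show z ∈ (⊤ : X.Opens) from trivial), map_prod,
      IsUnit.prod_iff, Finset.mem_univ, forall_const]
  have hne : ∀ z, z ∉ SGA1t.compl φ → Nonempty (SGA1t.vanishingAt φ z) := fun z hz => by
    rw [hmem] at hz
    push Not at hz
    obtain ⟨i, hi⟩ := hz
    exact ⟨⟨i, hi⟩⟩
  refine ⟨fun z hz => ?_, fun z => ?_⟩
  · obtain ⟨W, hzW, d, v, e, -, het, -⟩ := hD z (hne z hz)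
    refine ⟨W, hzW, ?_⟩
    rw [← AffineSpace.homOfVector_over (W.ι ≫ f) v]
    haveI := het
    haveI : Smooth (𝔸(ULift.{u} (Fin d); S) ↘ S) := Groth.L27.SecChart.smooth_over _ _
    infer_instance
  · by_cases hz : z ∈ SGA1t.compl φ
    · exact ⟨z, hz, rfl, specializes_rfl⟩
    obtain ⟨W, hzW, d, v, e, -, het, hv⟩ := hD z (hne z hz)
    haveI := het
    let π := AffineSpace.homOfVector (W.ι ≫ f) v
    let z₀ : (W : Scheme.{u}) := ⟨z, hzW⟩
    let a := π z₀
    obtain ⟨a', haa, hfa, hcoord⟩ := exists_generic_coords a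
    obtain ⟨w₀, hwz, hwa⟩ := Flat.generalizingMap π haa
    have hπf : ∀ t, f (W.ι t) = (𝔸(ULift.{u} (Fin d); S) ↘ S) (π t) := fun t => by
      rw [← Scheme.Hom.comp_apply π, AffineSpace.homOfVector_over, Scheme.Hom.comp_apply]
    have hsp : W.ι w₀ ⤳ z := hwz.map W.ι.continuous
    refine ⟨W.ι w₀, (hmem _).2 fun i => ?_, ?_, hsp⟩
    · by_cases hi : z ∈ X.basicOpen (φ i)
      · exact hsp.mem_open (X.basicOpen (φ i)).2 hi
      · have h1 : w₀ ∈ π ⁻¹ᵁ (𝔸(ULift.{u} (Fin d); S)).basicOpen (AffineSpace.coord S (ULift.up (e ⟨i, hi⟩))) := by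
          rw [Scheme.Hom.mem_preimage, hwa]; exact hcoord _
        rw [Scheme.preimage_basicOpen_top, AffineSpace.homOfVector_appTop_coord, hv ⟨i, hi⟩] at h1
        have h2 : W.ι w₀ ∈ W.ι ''ᵁ (W : Scheme.{u}).basicOpen
            (W.topIso.inv (X.presheaf.map (homOfLE le_top).op (φ i))) := ⟨w₀, h1, rfl⟩
        rw [Scheme.Opens.ι_image_basicOpen_topIso_inv, Scheme.basicOpen_res] at h2
        exact h2.2
    · show f (W.ι w₀) = f (W.ι z₀)
      rw [hπf, hπf, hwa]; exact hfa

end Groth.L23.SNC
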