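import Groth.Agent.L23.SNC.Main
import Groth.Agent.L10.EtBCComp.VComp
import Groth.Agent.L27.BigSets.ProperBC

/-!
# Base change in degree zero for a composite direct image
-/

universe u

open CategoryTheory CategoryTheory.Limits AlgebraicGeometry

set_option autoImplicit false
set_option backward.isDefEq.respectTransparency false
set_option backward.isDefEq.respectTransparency.types false
set_option linter.style.haveILetI false
set_option linter.unusedSectionVars false

noncomputable section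

namespace Groth.L23.SNC

open Groth.L27.LimCoh Groth.L10.EtBCComp

variable {U X S U' X' S' : Scheme.{u}}

/-- A square and its transpose have inverse isomorphisms of direct images. -/
theorem sqIso_transpose (f : X ⟶ S) (g : S' ⟶ S) (f' : X' ⟶ S') (g' : X' ⟶ X) (w : g' ≫ f = f' ≫ g)
    (M : EtCoh.Ab X') :
    (sqIso f g f' g' w).hom.app M ≫ (sqIso g f g' f' w.symm).hom.app M = 𝟙 _ := by
  rw [sqIso_hom_app, sqIso_hom_app, Category.assoc]
  have hjs : ∀ {k : X' ⟶ S} (e : f' ≫ g = k) (e' : g' ≫ f = k),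
      pushSplit f' g e M ≫ pushJoin f' g rfl M ≫ pushSplit g' f w M = pushSplit g' f e' M := by
    rintro k rfl e'
    rw [← Category.assoc, pushSplit_pushJoin, Category.id_comp]
  exact (congrArg (pushJoin g' f rfl M ≫ ·) (hjs w.symm rfl)).trans (pushJoin_pushSplit g' f rfl M)

variable (f : X ⟶ S) (h : S' ⟶ S) (f' : X' ⟶ S') (p : X' ⟶ X) (ι : U ⟶ X) (ι' : U' ⟶ X') (k : U' ⟶ U)
  (w₁ : p ≫ f = f' ≫ h) (w₂ : k ≫ ι = ι' ≫ p) (w : k ≫ (ι ≫ f) = (ι' ≫ f') ≫ h)

include w₁ w₂ in
theorem coherence_push (N : EtCoh.Ab U') :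
    (EtCoh.pushComp f ι).hom.app ((EtCoh.push k).obj N) ≫ (sqIso (ι ≫ f) h (ι' ≫ f') k w).hom.app N =
      (EtCoh.push f).map ((sqIso ι p ι' k w₂).hom.app N) ≫ (sqIso f h f' p w₁).hom.app ((EtCoh.push ι').obj N) ≫
        (EtCoh.push h).map ((EtCoh.pushComp f' ι').hom.app N) := by
  haveI : IsIso ((sqIso h (ι ≫ f) k (ι' ≫ f') w.symm).hom.app N) := inferInstance
  rw [← cancel_mono ((sqIso h (ι ≫ f) k (ι' ≫ f') w.symm).hom.app N)]
  simp only [Category.assoc]
  rw [sqIso_transpose (ι ≫ f) h (ι' ≫ f') k w N]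
  erw [Category.comp_id]
  rw [    coherence f h p f' ι k ι' w₁.symm w₂.symm w.symm N,
    reassoc_of% sqIso_transpose f h f' p w₁ ((EtCoh.push ι').obj N),
    ← Functor.map_comp_assoc, sqIso_transpose ι p ι' k w₂ N, CategoryTheory.Functor.map_id, Category.id_comp]

include w₁ w₂ in
/-- The base change map of a composite direct image. -/
theorem baseChange0_comp (F : EtCoh.Ab U) :
    (EtCoh.pull h).map ((EtCoh.pushComp f ι).hom.app F) ≫ EtCoh.baseChange0 (ι ≫ f) h (ι' ≫ f') k w F =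
      EtCoh.baseChange0 f h f' p w₁ ((EtCoh.push ι).obj F) ≫
        (EtCoh.push f').map (EtCoh.baseChange0 ι p ι' k w₂ F) ≫
          (EtCoh.pushComp f' ι').hom.app ((EtCoh.pull k).obj F) := by
  apply ((EtCoh.pullPushAdj h).homEquiv _ _).injective
  unfold EtCoh.baseChange0
  rw [Adjunction.homEquiv_naturality_left, Equiv.apply_symm_apply, Adjunction.homEquiv_naturality_right]
  erw [Equiv.apply_symm_apply]
  have hN : (EtCoh.pushComp f ι).hom.app F ≫ (EtCoh.push (ι ≫ f)).map ((EtCoh.pullPushAdj k).unit.app F) =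
      (EtCoh.push f).map ((EtCoh.push ι).map ((EtCoh.pullPushAdj k).unit.app F)) ≫
        (EtCoh.pushComp f ι).hom.app ((EtCoh.push k).obj ((EtCoh.pull k).obj F)) :=
    ((EtCoh.pushComp f ι).hom.naturality _).symm
  let a := EtCoh.baseChange0 ι p ι' k w₂ F
  have ha : (EtCoh.pullPushAdj p).unit.app ((EtCoh.push ι).obj F) ≫ (EtCoh.push p).map a =
      (EtCoh.push ι).map ((EtCoh.pullPushAdj k).unit.app F) ≫ (sqIso ι p ι' k w₂).hom.app ((EtCoh.pull k).obj F) :=
    ((EtCoh.pullPushAdj p).homEquiv_unit _ _ a).symm.trans (Equiv.apply_symm_apply _ _)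
  calc (EtCoh.pushComp f ι).hom.app F ≫ (EtCoh.push (ι ≫ f)).map ((EtCoh.pullPushAdj k).unit.app F) ≫
        (sqIso (ι ≫ f) h (ι' ≫ f') k w).hom.app ((EtCoh.pull k).obj F) = _ := by
        rw [reassoc_of% hN, coherence_push f h f' p ι ι' k w₁ w₂ w]
    _ = (EtCoh.push f).map ((EtCoh.pullPushAdj p).unit.app ((EtCoh.push ι).obj F) ≫ (EtCoh.push p).map a) ≫
        (sqIso f h f' p w₁).hom.app ((EtCoh.push ι').obj ((EtCoh.pull k).obj F)) ≫
          (EtCoh.push h).map ((EtCoh.pushComp f' ι').hom.app ((EtCoh.pull k).obj F)) := by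
        rw [ha, Functor.map_comp, Category.assoc]
    _ = _ := by
        have hn := (sqIso f h f' p w₁).hom.naturality a
        simp only [Functor.comp_map] at hn
        rw [Functor.map_comp, Category.assoc, reassoc_of% hn, Functor.map_comp]
        simp only [sqIso, Iso.trans_hom, Iso.symm_hom, NatTrans.comp_app, Category.assoc]
        rfl

include w₁ w₂ in
theorem isIso_baseChange0_comp [IsProper f] (sq : IsPullback p f' f h) (F : EtCoh.Ab U)
    [IsIso (EtCoh.baseChange0 ι p ι' k w₂ F)] : IsIso (EtCoh.baseChange0 (ι ≫ f) h (ι' ≫ f') k w F) := by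
  haveI := Groth.L27.BigSets.isIso_baseChange0 sq ((EtCoh.push ι).obj F)
  haveI : IsIso ((EtCoh.pull h).map ((EtCoh.pushComp f ι).hom.app F) ≫
      EtCoh.baseChange0 (ι ≫ f) h (ι' ≫ f') k w F) := by
    rw [baseChange0_comp f h f' p ι ι' k w₁ w₂ w F]; infer_instance
  exact IsIso.of_isIso_comp_left ((EtCoh.pull h).map ((EtCoh.pushComp f ι).hom.app F)) _

end Groth.L23.SNC
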